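import Groth.Agent.Lib.ModM1.Coh
import Groth.Agent.Lib.ModM1.FT
import Groth.Agent.Lib.ModM1.Stalk
import Groth.Agent.Lib.Curve17.SubSheaf
import Mathlib.LinearAlgebra.Finsupp.LinearCombination

/-!
# Modules generated by at most `r` sections near a point
-/

universe u

set_option linter.style.haveILetI false
set_option linter.unusedSectionVars false
set_option backward.isDefEq.respectTransparency false

open CategoryTheory Limits AlgebraicGeometry TopologicalSpace Opposite

namespace Groth.Agent.GenBound12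

open Groth.Agent.M1

variable {X : Scheme.{u}}

/-- Near `x`, sections are locally combinations of `r` fixed sections. -/
def GenAt (M : X.Modules) (r : ℕ) (x : X) : Prop :=
  ∃ (O : X.Opens) (_ : x ∈ O) (s : Fin r → Γ(M, O)), ∀ z ∈ O, ∀ (V : X.Opens), z ∈ V → ∀ t : Γ(M, V),
    ∃ (W : X.Opens) (hV : W ≤ V) (hO : W ≤ O), z ∈ W ∧
      mres M hV t ∈ Submodule.span Γ(X, W) (Set.range fun i => mres M hO (s i))

lemma mres_mem_span (M : X.Modules) {ι : Type*} {U W W' : X.Opens} (hU : W ≤ U) (h : W' ≤ W)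
    (s : ι → Γ(M, U)) {m : Γ(M, W)} (hm : m ∈ Submodule.span Γ(X, W) (Set.range fun i => mres M hU (s i))) :
    mres M h m ∈ Submodule.span Γ(X, W') (Set.range fun i => mres M (h.trans hU) (s i)) := by
  induction hm using Submodule.span_induction with
  | mem y hy =>
    obtain ⟨i, rfl⟩ := hy
    exact Submodule.subset_span ⟨i, (mres_mres M hU h (s i)).symm⟩
  | zero => rw [map_zero]; exact Submodule.zero_mem _
  | add a b _ _ ha hb => rw [map_add]; exact Submodule.add_mem _ ha hb
  | smul c a _ ha => rw [mres_smul]; exact Submodule.smul_mem _ _ ha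

lemma germ_mem_span (M : X.Modules) {ι : Type*} {U W : X.Opens} (hU : W ≤ U) {x : X} (hx : x ∈ W)
    (s : ι → Γ(M, U)) {m : Γ(M, W)} (hm : m ∈ Submodule.span Γ(X, W) (Set.range fun i => mres M hU (s i))) :
    M.presheaf.germ W x hx m ∈ Submodule.span (X.presheaf.stalk x)
      (Set.range fun i => M.presheaf.germ U x (hU hx) (s i)) := by
  induction hm using Submodule.span_induction with
  | mem y hy =>
    obtain ⟨i, rfl⟩ := hy
    exact Submodule.subset_span ⟨i, (germ_mres M hU hx (s i)).symm⟩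
  | zero => rw [map_zero]; exact Submodule.zero_mem _
  | add a b _ _ ha hb => rw [map_add]; exact Submodule.add_mem _ ha hb
  | smul c a _ ha => rw [germ_smul]; exact Submodule.smul_mem _ _ ha

/-- An element of the span of germs comes from the span of sections nearby. -/
lemma exists_of_mem_span_germ (M : X.Modules) {ι : Type*} {U : X.Opens} {x : X} (hxU : x ∈ U)
    (s : ι → Γ(M, U)) {a : M.presheaf.stalk x}
    (ha : a ∈ Submodule.span (X.presheaf.stalk x) (Set.range fun i => M.presheaf.germ U x hxU (s i))) :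
    ∃ (W : X.Opens) (hU : W ≤ U) (hx : x ∈ W) (m : Γ(M, W)),
      M.presheaf.germ W x hx m = a ∧ m ∈ Submodule.span Γ(X, W) (Set.range fun i => mres M hU (s i)) := by
  induction ha using Submodule.span_induction with
  | mem y hy =>
    obtain ⟨i, rfl⟩ := hy
    exact ⟨U, le_rfl, hxU, s i, rfl, Submodule.subset_span ⟨i, by simp⟩⟩
  | zero => exact ⟨U, le_rfl, hxU, 0, map_zero _, Submodule.zero_mem _⟩
  | add a b _ _ ha hb =>
    obtain ⟨W, hU, hx, m, rfl, hm⟩ := ha
    obtain ⟨W', hU', hx', m', rfl, hm'⟩ := hb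
    refine ⟨W ⊓ W', inf_le_left.trans hU, ⟨hx, hx'⟩,
      mres M inf_le_left m + mres M inf_le_right m', ?_,
      Submodule.add_mem _ (mres_mem_span M hU inf_le_left s hm) (mres_mem_span M hU' inf_le_right s hm')⟩
    rw [map_add, germ_mres, germ_mres]
  | smul c a _ ha =>
    obtain ⟨W, hU, hx, m, rfl, hm⟩ := ha
    obtain ⟨W', hx', c', rfl⟩ := X.presheaf.exists_germ_eq c
    refine ⟨W ⊓ W', inf_le_left.trans hU, ⟨hx, hx'⟩, ores inf_le_right c' • mres M inf_le_left m, ?_,
      Submodule.smul_mem _ _ (mres_mem_span M hU inf_le_left s hm)⟩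
    rw [germ_smul, germ_mres, TopCat.Presheaf.germ_res_apply]

/-- The germs of generating sections span the stalks. -/
lemma germ_freeSec_span {I : Type u} {M : X.Modules} (p : fr I ⟶ M) [Epi p] (x : X)
    (a : M.presheaf.stalk x) :
    a ∈ Submodule.span (X.presheaf.stalk x)
      (Set.range fun i => M.presheaf.germ ⊤ x trivial (freeSec p i)) := by
  let C : ∀ x : X, Submodule (X.presheaf.stalk x) (M.presheaf.stalk x) := fun x =>
    Submodule.span _ (Set.range fun i => M.presheaf.germ ⊤ x trivial (freeSec p i))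
  choose l hl using fun i : I => (Curve17.exists_preimage_iff M C (freeSec p i)).2
    fun y _ => Submodule.subset_span ⟨i, rfl⟩
  haveI : Mono (Curve17.subι M C) := (mono_iff_app _).2 (Curve17.subι_injective M C)
  haveI : Epi (Curve17.subι M C) := epi_of_epi_fac (h := p) (f := freeHom l)
    (by rw [freeHom_comp]; simp only [hl]; exact freeHom_freeSec p)
  haveI : IsIso (Curve17.subι M C) := isIso_of_mono_of_epi _
  obtain ⟨V, hxV, t, rfl⟩ := M.presheaf.exists_germ_eq a
  refine (Curve17.exists_preimage_iff M C t).1 ⟨(inv (Curve17.subι M C)).app V t, ?_⟩ x hxV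
  rw [← M1.comp_app_apply, IsIso.inv_hom_id]
  rfl

/-- An epimorphism from a small free module gives local bounds. -/
theorem genAt_of_epi (M : X.Modules) {r : ℕ} (U : X.Opens) {x : X} (hxU : x ∈ U) {I : Type u}
    (p : fr I ⟶ M.restrict U.ι) [Epi p] (e : I ↪ Fin r) : GenAt M r x := by
  have hle : U.ι ''ᵁ ⊤ ≤ U := by rintro _ ⟨z, -, rfl⟩; exact z.2
  have hge : U ≤ U.ι ''ᵁ ⊤ := fun y hy => ⟨⟨y, hy⟩, trivial, rfl⟩
  let s₀ : I → Γ(M, U) := fun i => mres M hge (freeSec p i : Γ(M, U.ι ''ᵁ ⊤))
  refine ⟨U, hxU, Function.extend e s₀ 0, fun z hz V hzV t => ?_⟩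
  let z' : (U : Scheme.{u}) := ⟨z, hz⟩
  let V' : (U : Scheme.{u}).Opens := U.ι ⁻¹ᵁ V
  have hV' : U.ι ''ᵁ V' ≤ V := Scheme.Hom.image_preimage_le _ _
  let t' : Γ(M.restrict U.ι, V') := mres M hV' t
  obtain ⟨W, hW, hzW, m, hm, hspan⟩ := exists_of_mem_span_germ (M.restrict U.ι) (x := z')
    (U := ⊤) trivial (freeSec p) (germ_freeSec_span p z' ((M.restrict U.ι).presheaf.germ V' z' hzV t'))
  obtain ⟨W', hzW', i₁, i₂, heq⟩ := (M.restrict U.ι).presheaf.germ_eq z' hzV hzW t' m hm.symm
  refine ⟨U.ι ''ᵁ W', (U.ι.image_mono i₁.le).trans hV', (U.ι.image_mono le_top).trans hle,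
    ⟨z', hzW', rfl⟩, ?_⟩
  have h1 : mres M ((U.ι.image_mono i₁.le).trans hV') t =
      (show Γ(M, U.ι ''ᵁ W') from mres (M.restrict U.ι) i₂.le m) := by
    rw [← mres_mres M hV' (U.ι.image_mono i₁.le)]
    exact heq
  rw [h1]
  have h2 := mres_mem_span (M.restrict U.ι) hW i₂.le (freeSec p) hspan
  generalize mres (M.restrict U.ι) i₂.le m = b at h2 ⊢
  induction h2 using Submodule.span_induction with
  | mem y hy =>
    obtain ⟨i, rfl⟩ := hy
    refine Submodule.subset_span ⟨e i, ?_⟩
    dsimp only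
    rw [e.injective.extend_apply, mres_mres]
    rfl
  | zero => exact Submodule.zero_mem _
  | add a b _ _ ha hb => exact Submodule.add_mem _ ha hb
  | smul c a _ ha =>
    have h3 : (show Γ(M, U.ι ''ᵁ W') from c • a) = (show Γ(X, U.ι ''ᵁ W') from c) • (show Γ(M, U.ι ''ᵁ W') from a) :=
      restrict_ι_smul M _ _
    rw [h3]
    exact Submodule.smul_mem _ _ ha

/-- Local generators give local bounds. -/
theorem genAt_of_data (M : X.Modules) (r : ℕ)
    (σ : SheafOfModules.LocalGeneratorsData.{u} (R := X.ringCatSheaf) M)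
    (hσ : ∀ k, Finite (σ.generators k).I ∧ Nat.card (σ.generators k).I ≤ r) (x : X) : GenAt M r x := by
  obtain ⟨k, hk⟩ := exists_mem_of_coversTop σ.coversTop x
  haveI : Finite (σ.generators k).I := (hσ k).1
  exact @genAt_of_epi X M r (σ.X k) x hk (genToRestrict (σ.generators k)).I
    (genToRestrict (σ.generators k)).π (genToRestrict (σ.generators k)).epi
    ((Finite.equivFin (σ.generators k).I).toEmbedding.trans
      ⟨Fin.castLE (hσ k).2, Fin.castLE_injective _⟩)

/-- A local bound gives generating sections nearby. -/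
theorem exists_generators {M : X.Modules} {r : ℕ} {x : X} (h : GenAt M r x) :
    ∃ (O : X.Opens) (σ : SheafOfModules.GeneratingSections (M.restrict O.ι)),
      x ∈ O ∧ Finite σ.I ∧ Nat.card σ.I ≤ r := by
  obtain ⟨O, hxO, s, hs⟩ := h
  have hle : O.ι ''ᵁ ⊤ ≤ O := by rintro _ ⟨z, -, rfl⟩; exact z.2
  let s' : ULift.{u} (Fin r) → Γ(M.restrict O.ι, ⊤) := fun i => mres M hle (s i.down)
  haveI hepi : Epi (freeHom s') := by
    refine (epi_iff_locally_surjective _).2 fun V' t z hz => ?_
    obtain ⟨W, hV, hO, hzW, hspan⟩ := hs z.1 z.2 (O.ι ''ᵁ V') ⟨z, hz, rfl⟩ t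
    let W' : (O : Scheme.{u}).Opens := O.ι ⁻¹ᵁ W
    have hW'V : W' ≤ V' := fun y hy => by
      obtain ⟨y', hy', he⟩ := hV hy
      obtain rfl : y' = y := O.ι.isOpenEmbedding.injective he
      exact hy'
    refine ⟨W', hW'V, hzW, ?_⟩
    have himg : O.ι ''ᵁ W' ≤ W := Scheme.Hom.image_preimage_le _ _
    have h1 := mres_mem_span M hO himg s hspan
    rw [mres_mres] at h1
    show ∃ a, (freeHom s').app W' a = (show Γ(M, O.ι ''ᵁ W') from mres M (himg.trans hV) t)
    generalize mres M (himg.trans hV) t = b at h1 ⊢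
    induction h1 using Submodule.span_induction with
    | mem y hy =>
      obtain ⟨i, rfl⟩ := hy
      refine ⟨mres (fr _) le_top ((ιF (ULift.up i)).app ⊤ (one ⊤)), ?_⟩
      rw [app_mres, ← comp_app_apply, ιF_freeHom, secHom_app_one]
      exact mres_mres M hle (O.ι.image_mono le_top) (s i)
    | zero => exact ⟨0, map_zero _⟩
    | add a b _ _ ha hb =>
      obtain ⟨a', ha⟩ := ha
      obtain ⟨b', hb⟩ := hb
      exact ⟨a' + b', (map_add _ _ _).trans (congrArg₂ (· + ·) ha hb)⟩
    | smul c a _ ha =>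
      obtain ⟨a', ha⟩ := ha
      refine ⟨(show Γ((O : Scheme.{u}), W') from c) • a', ?_⟩
      rw [Scheme.Modules.Hom.app_smul, ha]
      exact restrict_ι_smul M c a
  exact ⟨O, genOfEpi (freeHom s'), hxO, (inferInstance : Finite (ULift.{u} (Fin r))),
    le_of_eq (show Nat.card (ULift.{u} (Fin r)) = r by simp)⟩

/-- Local bounds give local generators. -/
theorem exists_data (M : X.Modules) (r : ℕ) (h : ∀ x, GenAt M r x) :
    ∃ σ : SheafOfModules.LocalGeneratorsData.{u} (R := X.ringCatSheaf) M,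
      ∀ k, Finite (σ.generators k).I ∧ Nat.card (σ.generators k).I ≤ r := by
  choose O σ hxO hfin hcard using fun x => exists_generators (h x)
  refine ⟨{ I := ↥X, X := O, coversTop := coversTop_of_forall_mem O fun x => ⟨x, hxO x⟩,
            generators := fun x => genOfRestrict (σ x) }, fun x => ?_⟩
  exact ⟨hfin x, hcard x⟩

/-- Local bounds bound the generators of the stalks. -/
theorem exists_span_stalk {M : X.Modules} {r : ℕ} {x : X} (h : GenAt M r x) :
    ∃ g : Fin r → M.presheaf.stalk x, Submodule.span (X.presheaf.stalk x) (Set.range g) = ⊤ := by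
  obtain ⟨O, hxO, s, hs⟩ := h
  refine ⟨fun i => M.presheaf.germ O x hxO (s i), eq_top_iff.2 fun a _ => ?_⟩
  obtain ⟨V, hxV, t, rfl⟩ := M.presheaf.exists_germ_eq a
  obtain ⟨W, hV, hO, hxW, hm⟩ := hs x hxO V hxV t
  rw [← germ_mres M hV hxW]
  exact germ_mem_span M hO hxW s hm

/-- Generators of the stalk of a quasi-coherent module of finite type generate nearby. -/
theorem genAt_of_span_stalk {M : X.Modules} [Coh.IsQCoh M] {U : X.Opens} (hU : IsAffineOpen U)
    [Module.Finite Γ(X, U) Γ(M, U)] {r : ℕ} {x : X} (hx : x ∈ U) (g : Fin r → M.presheaf.stalk x)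
    (hg : Submodule.span (X.presheaf.stalk x) (Set.range g) = ⊤) : GenAt M r x := by
  classical
  choose c m hc hm using fun i => exists_germ_smul_eq M hU hx (g i)
  have hgm : Submodule.span (X.presheaf.stalk x) (Set.range fun i => M.presheaf.germ U x hx (m i)) = ⊤ := by
    refine eq_top_iff.2 (hg ▸ Submodule.span_le.2 ?_)
    rintro _ ⟨i, rfl⟩
    have : g i = (hc i).unit⁻¹.1 • M.presheaf.germ U x hx (m i) := by
      rw [← hm, smul_smul, IsUnit.val_inv_mul, one_smul]
    rw [this]
    exact Submodule.smul_mem _ _ (Submodule.subset_span ⟨i, rfl⟩)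
  let N := Submodule.span Γ(X, U) (Set.range m)
  have key : ∀ t : Γ(M, U), ∃ a : Γ(X, U), IsUnit (X.presheaf.germ U x hx a) ∧ a • t ∈ N := fun t => by
    obtain ⟨W, hW, hxW, w, hw, hwspan⟩ := exists_of_mem_span_germ M hx m
      (hgm ▸ Submodule.mem_top : M.presheaf.germ U x hx t ∈ _)
    obtain ⟨W', hxW', i₁, i₂, he⟩ := M.presheaf.germ_eq x hxW hx w t hw
    obtain ⟨h, hhW, hxh⟩ := hU.exists_basicOpen_le ⟨x, hxW'⟩ hx
    have h1 : mres M (X.basicOpen_le h) t ∈ Submodule.span Γ(X, X.basicOpen h)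
        (Set.range fun i => mres M (X.basicOpen_le h) (m i)) := by
      rw [← mres_mres M i₂.le hhW, ← show mres M i₁.le w = mres M i₂.le t from he, mres_mres]
      exact mres_mem_span M hW (hhW.trans i₁.le) m hwspan
    haveI := hU.isLocalization_basicOpen h
    have h2 : ∀ b ∈ Submodule.span Γ(X, X.basicOpen h) (Set.range fun i => mres M (X.basicOpen_le h) (m i)),
        ∃ (k : ℕ) (n : Γ(M, U)), n ∈ N ∧ mres M (X.basicOpen_le h) n = ores (X.basicOpen_le h) h ^ k • b := by
      intro b hb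
      induction hb using Submodule.span_induction with
      | mem y hy =>
        obtain ⟨i, rfl⟩ := hy
        exact ⟨0, m i, Submodule.subset_span ⟨i, rfl⟩, by rw [pow_zero, one_smul]⟩
      | zero => exact ⟨0, 0, Submodule.zero_mem _, by rw [map_zero, smul_zero]⟩
      | add a b _ _ ha hb =>
        obtain ⟨k, n, hn, e⟩ := ha
        obtain ⟨k', n', hn', e'⟩ := hb
        refine ⟨k + k', h ^ k' • n + h ^ k • n',
          Submodule.add_mem _ (Submodule.smul_mem _ _ hn) (Submodule.smul_mem _ _ hn'), ?_⟩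
        rw [map_add, mres_smul, mres_smul, e, e', map_pow, map_pow, smul_smul, smul_smul, ← pow_add,
          ← pow_add, add_comm k' k, smul_add]
      | smul d a _ ha =>
        obtain ⟨k, n, hn, e⟩ := ha
        obtain ⟨⟨d₀, ⟨_, l, rfl⟩⟩, hd⟩ := IsLocalization.surj (Submonoid.powers h) d
        refine ⟨k + l, d₀ • n, Submodule.smul_mem _ _ hn, ?_⟩
        rw [mres_smul, e, smul_smul, smul_smul]
        refine congrArg (· • a) ?_
        rw [show ores (X.basicOpen_le h) d₀ = d * ores (X.basicOpen_le h) h ^ l from hd.symm.trans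
          (congrArg (d * ·) (map_pow (X.presheaf.map (homOfLE (X.basicOpen_le h)).op).hom h l))]
        ring
    obtain ⟨k, n, hn, e⟩ := h2 _ h1
    obtain ⟨l, hl⟩ := exists_pow_smul_eq_zero_affine M hU h (n - h ^ k • t) (by
      rw [map_sub, mres_smul, map_pow, e, sub_self])
    refine ⟨h ^ (l + k), ?_, ?_⟩
    · rw [map_pow]
      exact ((X.mem_basicOpen h x hx).1 hxh).pow _
    · rw [pow_add, mul_smul]
      rw [smul_sub, sub_eq_zero] at hl
      rw [← hl]
      exact Submodule.smul_mem _ _ hn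
  obtain ⟨T, hT⟩ := (inferInstance : Module.Finite Γ(X, U) Γ(M, U)).fg_top
  choose a ha haN using key
  let G := ∏ t ∈ T, a t
  have hG : IsUnit (X.presheaf.germ U x hx G) := by
    rw [map_prod]; exact IsUnit.prod_iff.2 fun t _ => ha t
  have hGN : ∀ t : Γ(M, U), G • t ∈ N := fun t => by
    have ht : t ∈ Submodule.span Γ(X, U) (T : Set Γ(M, U)) := by rw [hT]; trivial
    induction ht using Submodule.span_induction with
    | mem y hy =>
      obtain ⟨b, hb⟩ := Finset.dvd_prod_of_mem a hy
      rw [show G = b * a y by rw [show G = a y * b from hb, mul_comm], mul_smul]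
      exact Submodule.smul_mem _ _ (haN y)
    | zero => rw [smul_zero]; exact Submodule.zero_mem _
    | add y z _ _ hy hz => rw [smul_add]; exact Submodule.add_mem _ hy hz
    | smul d y _ hy => rw [smul_comm]; exact Submodule.smul_mem _ _ hy
  refine ⟨X.basicOpen G, (X.mem_basicOpen G x hx).2 hG, fun i => mres M (X.basicOpen_le G) (m i),
    fun z hz V hzV t => ?_⟩
  obtain ⟨h, hle, hzh⟩ := hU.exists_basicOpen_le (V := V ⊓ X.basicOpen G) ⟨z, hzV, hz⟩ (X.basicOpen_le G hz)
  have hV : X.basicOpen h ≤ V := hle.trans inf_le_left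
  have hO : X.basicOpen h ≤ X.basicOpen G := hle.trans inf_le_right
  refine ⟨X.basicOpen h, hV, hO, hzh, ?_⟩
  obtain ⟨k, t₀, ht₀⟩ := exists_pow_smul_eq_res_affine M hU h (mres M hV t)
  have hGu : IsUnit (ores (X.basicOpen_le h) G) := by
    have h0 : IsUnit (ores (X.basicOpen_le G) G) := X.toRingedSpace.isUnit_res_basicOpen G
    rw [← ores_ores (X.basicOpen_le G) hO G]
    exact h0.map _
  have hhu : IsUnit (ores (X.basicOpen_le h) h) := X.toRingedSpace.isUnit_res_basicOpen h
  have h1 : ores (X.basicOpen_le h) G • (ores (X.basicOpen_le h) h ^ k • mres M hV t) ∈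
      Submodule.span Γ(X, X.basicOpen h) (Set.range fun i => mres M hO (mres M (X.basicOpen_le G) (m i))) := by
    rw [← ht₀, ← mres_smul]
    have := mres_mem_span M (le_refl U) (X.basicOpen_le h) m
      (m := G • t₀) (by simpa only [mres_id] using hGN t₀)
    simpa only [mres_mres] using this
  rw [smul_smul, Submodule.smul_mem_iff_of_isUnit _ (hGu.mul (hhu.pow k))] at h1
  exact h1

end Groth.Agent.GenBound12
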