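import Groth.Agent.Lib.GenBound12.Alg
import Groth.Agent.Lib.GenBound12.Local
import Groth.Agent.Lib.QcohDesc12.Glue

/-!
# Bounds on generators descend along fpqc coverings
-/

universe u

set_option linter.style.haveILetI false
set_option linter.unusedSectionVars false
set_option backward.isDefEq.respectTransparency false
set_option backward.isDefEq.respectTransparency.types false

open CategoryTheory Limits AlgebraicGeometry TensorProduct

namespace Groth.Agent.GenBound12

open Groth.Agent.QcohDesc12 ModLimH13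

variable {ι : Type u} {X : Scheme.{u}} {Y : ι → Scheme.{u}} {f : ∀ i, Y i ⟶ X}
  (hf : Presieve.ofArrows Y f ∈ Scheme.fpqcPrecoverage X)
include hf

/-- Finiteness of the sections over affine opens descends. -/
theorem finite_sections_of_pullback (F : X.Modules) [Coh.IsQCoh F]
    (h : ∀ i, CohB1.IsFT ((Scheme.Modules.pullback (f i)).obj F)) {U : X.Opens} (hU : IsAffineOpen U) :
    Module.Finite Γ(X, U) Γ(F, U) := by
  classical
  haveI := fun i => flat_of_mem hf i
  haveI : Fact (IsAffineOpen U) := ⟨hU⟩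
  obtain ⟨P⟩ := exists_pieces hf hU
  have hfin : ∀ k, Module.Finite Γ(Y (P.idx k), P.W k) (Γ(Y (P.idx k), P.W k) ⊗[Γ(X, U)] Γ(F, U)) := fun k => by
    obtain ⟨Φ, -⟩ := exists_pullEquiv (f (P.idx k)) F (P.le k) hU (P.aff k)
    haveI := M1.finite_sections (M1.isQCoh_pullback (f (P.idx k)) inferInstance) (h (P.idx k)) (P.aff k)
    exact Module.Finite.equiv Φ.symm
  choose T hT using fun k => (hfin k).fg_top
  choose n c y hy using fun k (z : Γ(Y (P.idx k), P.W k) ⊗[Γ(X, U)] Γ(F, U)) =>
    (TensorProduct.exists_sum_tmul_eq (R := Γ(X, U)) (M := Γ(Y (P.idx k), P.W k)) (N := Γ(F, U)) z)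
  let N : Submodule Γ(X, U) Γ(F, U) := Submodule.span Γ(X, U) (⋃ k, ⋃ z ∈ T k, Set.range (y k z))
  haveI := Fintype.ofFinite P.K
  have hNfg : N.FG := by
    refine Submodule.fg_span ?_
    exact Set.finite_iUnion fun k => (T k).finite_toSet.biUnion fun z _ => Set.finite_range _
  refine ⟨?_⟩
  suffices hN : N = ⊤ from hN ▸ hNfg
  refine eq_top_iff.2 fun t _ => (Submodule.Quotient.mk_eq_zero N).1 ?_
  refine eq_zero_of_forall_tmul_eq_zero (B := fun k => Γ(Y (P.idx k), P.W k)) (fun p => P.comap_surjective p)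
    (Submodule.Quotient.mk t : Γ(F, U) ⧸ N) fun k => ?_
  let q := LinearMap.baseChange Γ(Y (P.idx k), P.W k) N.mkQ
  have h0 : q = 0 := LinearMap.ext_on (hT k) fun z hz => by
    rw [hy k z, map_sum, LinearMap.zero_apply]
    refine Finset.sum_eq_zero fun i _ => ?_
    have : N.mkQ (y k z i) = 0 := (Submodule.Quotient.mk_eq_zero N).2
      (Submodule.subset_span (Set.mem_iUnion.2 ⟨k, Set.mem_iUnion₂.2 ⟨z, hz, ⟨i, rfl⟩⟩⟩))
    rw [LinearMap.baseChange_tmul, this, TensorProduct.tmul_zero]
  exact congrArg (fun φ => φ (1 ⊗ₜ t)) h0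

/-- Bounds on the number of local generators descend. -/
theorem genAt_of_pullback (F : X.Modules) [Coh.IsQCoh F] (r : ℕ)
    (hft : ∀ i, CohB1.IsFT ((Scheme.Modules.pullback (f i)).obj F))
    (h : ∀ i y, GenAt ((Scheme.Modules.pullback (f i)).obj F) r y) (x : X) : GenAt F r x := by
  obtain ⟨U, hU, hxU, -⟩ := exists_isAffineOpen_mem_and_subset (U := (⊤ : X.Opens))
    (show x ∈ (⊤ : X.Opens) from trivial)
  haveI := finite_sections_of_pullback hf F hft hU
  haveI := fun i => flat_of_mem hf i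
  haveI : Fact (IsAffineOpen U) := ⟨hU⟩
  obtain ⟨P⟩ := exists_pieces hf hU
  obtain ⟨k, y, hy, rfl⟩ := P.cov x hxU
  obtain ⟨g, hg⟩ := exists_span_stalk (h (P.idx k) y)
  haveI : Module.Finite (X.presheaf.stalk (f (P.idx k) y)) (F.presheaf.stalk (f (P.idx k) y) : Type u) := by
    classical
    obtain ⟨T, hT⟩ := (inferInstance : Module.Finite Γ(X, U) Γ(F, U)).fg_top
    refine ⟨⟨T.image fun t => F.presheaf.germ U _ hxU t, eq_top_iff.2 fun a _ => ?_⟩⟩
    obtain ⟨r', m, hr, hm⟩ := M1.exists_germ_smul_eq F hU hxU a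
    rw [show a = hr.unit⁻¹.1 • F.presheaf.germ U _ hxU m by
      rw [← hm, smul_smul, IsUnit.val_inv_mul, one_smul]]
    refine Submodule.smul_mem _ _ ?_
    have h1 := germ_mem_span F (le_refl U) hxU (fun t : T => t.1) (m := m) (by
      simp only [M1.mres_id, Subtype.range_coe_subtype, Finset.setOfPred_mem]
      rw [hT]; trivial)
    refine Submodule.span_mono ?_ h1
    rintro _ ⟨t, rfl⟩
    exact Finset.mem_coe.2 (Finset.mem_image.2 ⟨t.1, t.2, rfl⟩)
  haveI : IsLocalHom (algebraMap (X.presheaf.stalk (f (P.idx k) y)) ((Y (P.idx k)).presheaf.stalk y)) :=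
    inferInstanceAs (IsLocalHom ((f (P.idx k)).stalkMap y).hom)
  let hb := M2.isBaseChange_stalkUnit (f (P.idx k)) y F
  obtain ⟨m, hm⟩ := exists_span_eq_top (fun i => hb.equiv.symm (g i)) (eq_top_iff.2 fun z _ => by
    have h1 : hb.equiv z ∈ Submodule.span ((Y (P.idx k)).presheaf.stalk y) (Set.range g) := by rw [hg]; trivial
    have h2 := Submodule.mem_map_of_mem (f := hb.equiv.symm.toLinearMap) h1
    rw [Submodule.map_span, ← Set.range_comp] at h2
    simpa [Function.comp_def] using h2)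
  exact genAt_of_span_stalk hU hxU m hm

end Groth.Agent.GenBound12
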