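import Mathlib.RingTheory.LocalRing.Module
import Mathlib.LinearAlgebra.Dimension.Constructions
import Mathlib.LinearAlgebra.TensorProduct.Tower

/-!
# The number of generators over a local ring descends
-/

universe u

open TensorProduct

namespace Groth.Agent.GenBound12

variable {A B : Type u} [CommRing A] [CommRing B] [IsLocalRing A] [IsLocalRing B] [Algebra A B]
  [IsLocalHom (algebraMap A B)] {M : Type u} [AddCommGroup M] [Module A M] [Module.Finite A M]

/-- If a base change is generated by `r` elements, so is the module. -/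
theorem exists_span_eq_top {r : ℕ} (g : Fin r → B ⊗[A] M) (hg : Submodule.span B (Set.range g) = ⊤) :
    ∃ m : Fin r → M, Submodule.span A (Set.range m) = ⊤ := by
  let k := IsLocalRing.ResidueField A
  let k' := IsLocalRing.ResidueField B
  let φ : B ⊗[A] M →ₗ[B] k' ⊗[A] M := AlgebraTensorModule.map (Algebra.linearMap B k') LinearMap.id
  have hφ : Function.Surjective φ :=
    LinearMap.rTensor_surjective M (g := (Algebra.linearMap B k').restrictScalars A)
      IsLocalRing.residue_surjective
  have hspan : Submodule.span k' (Set.range (φ ∘ g)) = ⊤ := by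
    refine eq_top_iff.2 fun z _ => ?_
    obtain ⟨y, rfl⟩ := hφ z
    refine Submodule.span_le_restrictScalars B k' _ ?_
    rw [Set.range_comp, ← Submodule.map_span, hg]
    exact ⟨y, trivial, rfl⟩
  have hle : Module.finrank k (k ⊗[A] M) ≤ r := by
    have h1 : Module.finrank k' (k' ⊗[A] M) ≤ r := by
      have h2 := finrank_range_le_card (R := k') (φ ∘ g)
      rw [Set.finrank, hspan, finrank_top, Fintype.card_fin] at h2
      exact h2
    rwa [← (AlgebraTensorModule.cancelBaseChange A k k' k' M).finrank_eq, Module.finrank_baseChange] at h1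
  let b := Module.finBasis k (k ⊗[A] M)
  have hmk : Function.Surjective (TensorProduct.mk A k M 1) := fun z => by
    have : (⊤ : Submodule A M).map (TensorProduct.mk A k M 1) = ⊤ :=
      IsLocalRing.map_tensorProduct_mk_eq_top.2 rfl
    obtain ⟨m, -, hm⟩ := (this ▸ trivial : z ∈ (⊤ : Submodule A M).map (TensorProduct.mk A k M 1))
    exact ⟨m, hm⟩
  choose f hf using fun i => hmk (b i)
  have hf' : Submodule.span A (Set.range f) = ⊤ := IsLocalRing.span_eq_top_of_tmul_eq_basis f b hf
  refine ⟨fun i => if h : i.1 < _ then f ⟨i.1, h⟩ else 0, eq_top_iff.2 (hf' ▸ Submodule.span_le.2 ?_)⟩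
  rintro _ ⟨j, rfl⟩
  exact Submodule.subset_span ⟨⟨j.1, lt_of_lt_of_le j.2 hle⟩, dif_pos j.2⟩

end Groth.Agent.GenBound12
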