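import Groth.Agent.Lib.GenBound12.Local
import Groth.Agent.Lib.QcohDesc12.Stalk

/-!
# Finite type descends along open flat surjective morphisms
-/

universe u

set_option linter.style.haveILetI false
set_option linter.unusedSectionVars false
set_option backward.isDefEq.respectTransparency false

open CategoryTheory Limits AlgebraicGeometry TopologicalSpace TensorProduct

namespace Groth.Agent.GenBound12

open Groth.Agent.M1 ModLimH13 QcohDesc12

variable {X Y : Scheme.{u}} (f : X ⟶ Y) (F : Y.Modules)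

/-- A submodule spanning after a faithfully flat base change is everything. -/
theorem mem_of_baseChange {A B M N : Type u} [CommRing A] [CommRing B] [Algebra A B] [Module.FaithfullyFlat A B]
    [AddCommGroup M] [Module A M] [AddCommGroup N] [Module A N] [Module B N] [IsScalarTower A B N]
    (φ : M →ₗ[A] N) (hφ : IsBaseChange B φ) (P : Submodule A M) (a : M)
    (ha : φ a ∈ Submodule.span B (φ '' P)) : a ∈ P := by
  rw [← Submodule.Quotient.mk_eq_zero P]
  refine Module.FaithfullyFlat.tensorProduct_mk_injective (A := A) (B := B) (M ⧸ P) ?_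
  let q : N →ₗ[B] B ⊗[A] (M ⧸ P) := (LinearMap.baseChange B P.mkQ).comp hφ.equiv.symm.toLinearMap
  have hq : ∀ m, q (φ m) = (1 : B) ⊗ₜ Submodule.Quotient.mk m := fun m => by
    show LinearMap.baseChange B P.mkQ (hφ.equiv.symm (φ m)) = _
    rw [hφ.equiv_symm_apply]
    rfl
  have h0 : Submodule.span B (φ '' P) ≤ LinearMap.ker q := Submodule.span_le.2 <| by
    rintro _ ⟨m, hm, rfl⟩
    show q (φ m) = 0
    rw [hq, (Submodule.Quotient.mk_eq_zero P).2 hm, TensorProduct.tmul_zero]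
  show (1 : B) ⊗ₜ[A] (Submodule.Quotient.mk a : M ⧸ P) = (1 : B) ⊗ₜ[A] 0
  rw [← hq, TensorProduct.tmul_zero]
  exact h0 ha

/-- Finite type descends along open, flat, surjective morphisms. -/
theorem exists_genAt_of_open [Flat f] [Surjective f] (hf : IsOpenMap f.base)
    (h : CohB1.IsFT ((Scheme.Modules.pullback f).obj F)) (y : Y) : ∃ r, GenAt F r y := by
  classical
  obtain ⟨x, rfl⟩ := f.surjective y
  let G := (Scheme.Modules.pullback f).obj F
  obtain ⟨U, hxU, σ, hσ⟩ := (isFT_iff_generators G).mp h x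
  haveI := hσ
  haveI : Epi σ.π := σ.epi
  obtain ⟨O, hxO, s, hs⟩ := genAt_of_epi G U hxU σ.π (Finite.equivFin σ.I).toEmbedding
  have hb := M2.isBaseChange_stalkUnit f x F
  have hstalk : ∀ l, G.presheaf.germ O x hxO (s l) ∈
      Submodule.span (X.presheaf.stalk x) (Set.range (M2.stalkUnit f x F)) := fun l => by
    induction G.presheaf.germ O x hxO (s l) using hb.inductionOn with
    | tmul m => exact Submodule.subset_span ⟨m, rfl⟩
    | smul r m hm => exact Submodule.smul_mem _ r hm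
    | zero => exact Submodule.zero_mem _
    | add a b ha hb => exact Submodule.add_mem _ ha hb
  choose T hT hTl using fun l => Submodule.mem_span_finite_of_mem_span (hstalk l)
  let T' := Finset.univ.biUnion T
  have hT' : ∀ a : T', ∃ (V : Y.Opens) (hV : f x ∈ V) (t : Γ(F, V)),
      M2.stalkUnit f x F (F.presheaf.germ V (f x) hV t) = a.1 := by
    rintro ⟨a, ha⟩
    obtain ⟨l, -, hal⟩ := Finset.mem_biUnion.1 ha
    obtain ⟨m, rfl⟩ := hT l hal
    obtain ⟨V, hV, t, rfl⟩ := F.presheaf.exists_germ_eq m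
    exact ⟨V, hV, t, rfl⟩
  choose V₀ hV₀ t₀ ht₀ using hT'
  obtain ⟨V, hVx, hVle⟩ : ∃ V : Y.Opens, f x ∈ V ∧ ∀ a, V ≤ V₀ a :=
    ⟨⟨⋂ a, (V₀ a : Set Y), isOpen_iInter_of_finite fun a => (V₀ a).2⟩, Set.mem_iInter.2 hV₀,
      fun a => Set.iInter_subset _ a⟩
  let t : T' → Γ(F, V) := fun a => mres F (hVle a) (t₀ a)
  let t' : T' → Γ(G, O ⊓ f ⁻¹ᵁ V) := fun a => res' f F inf_le_right (t a)
  have hx' : x ∈ O ⊓ f ⁻¹ᵁ V := ⟨hxO, hVx⟩
  have hnear : ∀ l, ∃ (W : X.Opens) (hW : W ≤ O ⊓ f ⁻¹ᵁ V), x ∈ W ∧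
      mres G (hW.trans inf_le_left) (s l) ∈ Submodule.span Γ(X, W) (Set.range fun a => mres G hW (t' a)) := by
    intro l
    obtain ⟨W, hW, hxW, m, hm, hspan⟩ := exists_of_mem_span_germ G hx' t'
      (a := G.presheaf.germ O x hxO (s l)) (by
        refine Submodule.span_mono ?_ (hTl l)
        intro a ha
        refine ⟨⟨a, Finset.mem_biUnion.2 ⟨l, Finset.mem_univ _, ha⟩⟩, ?_⟩
        show G.presheaf.germ _ x hx' (res' f F _ (t _)) = a
        rw [germ_res', germ_mres]
        exact ht₀ _)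
    obtain ⟨W', hxW', i₁, i₂, he⟩ := G.presheaf.germ_eq x hxW hxO m (s l) hm
    refine ⟨W', i₁.le.trans hW, hxW', ?_⟩
    rw [show mres G ((i₁.le.trans hW).trans inf_le_left) (s l) = mres G i₁.le m from he.symm]
    exact mres_mem_span G hW i₁.le t' hspan
  choose W₁ hW₁ hxW₁ hspan using hnear
  obtain ⟨W, hxW, hWle, hWl⟩ : ∃ W : X.Opens, x ∈ W ∧ W ≤ O ⊓ f ⁻¹ᵁ V ∧ ∀ l, W ≤ W₁ l :=
    ⟨(O ⊓ f ⁻¹ᵁ V) ⊓ ⟨⋂ l, (W₁ l : Set X), isOpen_iInter_of_finite fun l => (W₁ l).2⟩,
      ⟨hx', Set.mem_iInter.2 hxW₁⟩, inf_le_left, fun l => inf_le_right.trans fun _ hz => Set.mem_iInter.1 hz l⟩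
  have hsW : ∀ l, mres G (hWle.trans inf_le_left) (s l) ∈
      Submodule.span Γ(X, W) (Set.range fun a => mres G hWle (t' a)) := fun l => by
    have h1 := mres_mem_span G (hW₁ l) (hWl l) t' (hspan l)
    rwa [mres_mres] at h1
  have hstalkY : ∀ (z : X) (hz : z ∈ W) (a : F.presheaf.stalk (f z)),
      a ∈ Submodule.span (Y.presheaf.stalk (f z))
        (Set.range fun i => F.presheaf.germ V (f z) ((hWle hz).2) (t i)) := by
    intro z hz a
    haveI : Module.Flat (Y.presheaf.stalk (f z)) (X.presheaf.stalk z) := Flat.stalkMap f z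
    haveI : IsLocalHom (algebraMap (Y.presheaf.stalk (f z)) (X.presheaf.stalk z)) :=
      inferInstanceAs (IsLocalHom (f.stalkMap z).hom)
    haveI := Module.FaithfullyFlat.of_flat_of_isLocalHom (A := Y.presheaf.stalk (f z)) (B := X.presheaf.stalk z)
    refine mem_of_baseChange (M2.stalkUnit f z F) (M2.isBaseChange_stalkUnit f z F) _ a ?_
    have h1 : ∀ b : G.presheaf.stalk z, b ∈ Submodule.span (X.presheaf.stalk z)
        (Set.range fun i => G.presheaf.germ _ z (hWle hz) (t' i)) := fun b => by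
      obtain ⟨V', hV', c, rfl⟩ := G.presheaf.exists_germ_eq b
      obtain ⟨W', hV'', hO, hzW', hm⟩ := hs z (hWle hz).1 V' hV' c
      rw [← germ_mres G hV'' hzW']
      refine Submodule.span_le.2 ?_ (germ_mem_span G hO hzW' s hm)
      rintro _ ⟨l, rfl⟩
      show G.presheaf.germ O z _ (s l) ∈ _
      rw [← germ_mres G (hWle.trans inf_le_left) hz (s l)]
      exact germ_mem_span G hWle hz t' (hsW l)
    refine Submodule.span_mono ?_ (h1 (M2.stalkUnit f z F a))
    rintro _ ⟨i, rfl⟩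
    refine ⟨F.presheaf.germ V (f z) ((hWle hz).2) (t i), Submodule.subset_span ⟨i, rfl⟩, ?_⟩
    exact (germ_res' f F inf_le_right (t i) z (hWle hz)).symm
  let V' : Y.Opens := ⟨f '' (W : Set X), hf _ W.2⟩
  have hV'V : V' ≤ V := by rintro _ ⟨z, hz, rfl⟩; exact (hWle hz).2
  refine ⟨Nat.card T', V', ⟨x, hxW, rfl⟩, fun i => mres F hV'V (t ((Finite.equivFin T').symm i)), ?_⟩
  rintro _ ⟨z, hz, rfl⟩ V'' hzV'' c
  have hzV' : f z ∈ V' := ⟨z, hz, rfl⟩
  obtain ⟨W', hW', hzW', m, hm, hmspan⟩ := exists_of_mem_span_germ F hzV'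
    (fun i => mres F hV'V (t ((Finite.equivFin T').symm i)))
    (a := F.presheaf.germ V'' (f z) hzV'' c) (by
      refine Submodule.span_mono ?_ (hstalkY z hz _)
      rintro _ ⟨i, rfl⟩
      refine ⟨Finite.equivFin T' i, ?_⟩
      dsimp only
      rw [Equiv.symm_apply_apply, germ_mres])
  obtain ⟨W'', hzW'', i₁, i₂, he⟩ := F.presheaf.germ_eq (f z) hzW' hzV'' m c hm
  refine ⟨W'', i₂.le, i₁.le.trans hW', hzW'', ?_⟩
  rw [show mres F i₂.le c = mres F i₁.le m from he.symm]
  exact mres_mem_span F hW' i₁.le _ hmspan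

end Groth.Agent.GenBound12
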